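import Groth.Prelude.Def_GLin
import Mathlib

/-!
Weight decomposition of comodule algebras over a group algebra.
-/

set_option autoImplicit false

noncomputable section

universe u v w

open TensorProduct

namespace Groth.Agent.TorusW

variable {k : Type u} [CommRing k] {Λ : Type v} [AddCommGroup Λ] {R : Type w} [CommRing R] [Algebra k R]
  [HopfRep.Comod k (AddMonoidAlgebra k Λ) R]

/-- The coefficient functional. -/
def coef (z : Λ) : AddMonoidAlgebra k Λ →ₗ[k] k :=
  Finsupp.lapply z ∘ₗ (AddMonoidAlgebra.coeffLinearEquiv k).toLinearMap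

theorem coef_apply (z : Λ) (a : AddMonoidAlgebra k Λ) : coef z a = a.coeff z := rfl

/-- Extraction of a coefficient in a tensor product. -/
def ext' (z : Λ) : R ⊗[k] AddMonoidAlgebra k Λ →ₗ[k] R :=
  (TensorProduct.rid k R).toLinearMap ∘ₗ (coef z).lTensor R

/-- The projection to the weight `z`. -/
def proj (z : Λ) : R →ₗ[k] R := ext' z ∘ₗ HopfRep.Comod.coact (k := k) (A := AddMonoidAlgebra k Λ)

theorem ext'_tmul (z : Λ) (r : R) (a : AddMonoidAlgebra k Λ) : ext' z (r ⊗ₜ[k] a) = a.coeff z • r := by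
  simp [ext', coef_apply]

theorem exists_eq_sum (x : R ⊗[k] AddMonoidAlgebra k Λ) :
    ∃ s : Finset Λ, (∀ z, z ∉ s → ext' z x = 0) ∧ ∑ z ∈ s, ext' z x ⊗ₜ[k] (AddMonoidAlgebra.single z (1 : k)) = x := by
  classical
  induction x using TensorProduct.induction_on with
  | zero => exact ⟨∅, by simp⟩
  | tmul r a =>
    refine ⟨a.coeff.support, fun z hz => by rw [ext'_tmul, Finsupp.notMem_support_iff.1 hz, zero_smul], ?_⟩
    conv_rhs => rw [← AddMonoidAlgebra.sum_coeff_single a, Finsupp.sum, TensorProduct.tmul_sum]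
    exact Finset.sum_congr rfl fun z _ => by
      rw [ext'_tmul, TensorProduct.smul_tmul, AddMonoidAlgebra.smul_single, smul_eq_mul, mul_one]
  | add x y hx hy =>
    obtain ⟨s, hs, hsx⟩ := hx
    obtain ⟨t, ht, hty⟩ := hy
    refine ⟨s ∪ t, fun z hz => ?_, ?_⟩
    · simp only [Finset.mem_union, not_or] at hz
      rw [map_add, hs z hz.1, ht z hz.2, add_zero]
    · simp only [map_add, TensorProduct.add_tmul, Finset.sum_add_distrib]
      rw [← Finset.sum_subset Finset.subset_union_left (fun z _ hz => by rw [hs z hz, TensorProduct.zero_tmul]), hsx,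
        ← Finset.sum_subset Finset.subset_union_right (fun z _ hz => by rw [ht z hz, TensorProduct.zero_tmul]), hty]

theorem exists_coact_eq (f : R) :
    ∃ s : Finset Λ, (∀ z, z ∉ s → proj (k := k) z f = 0) ∧
      HopfRep.Comod.coact (k := k) (A := AddMonoidAlgebra k Λ) f = ∑ z ∈ s, proj (k := k) z f ⊗ₜ[k] (AddMonoidAlgebra.single z (1 : k)) ∧
      ∑ z ∈ s, proj (k := k) z f = f := by
  obtain ⟨s, h1, h2⟩ := exists_eq_sum (HopfRep.Comod.coact (k := k) (A := AddMonoidAlgebra k Λ) f)
  refine ⟨s, h1, h2.symm, ?_⟩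
  have h := LinearMap.congr_fun (HopfRep.Comod.counit_comp (k := k) (A := AddMonoidAlgebra k Λ) (V := R)) f
  rw [LinearMap.comp_apply, ← h2, map_sum] at h
  simp only [LinearMap.lTensor_tmul, AddMonoidAlgebra.counit_single, CommSemiring.counit_apply, LinearMap.flip_apply,
    TensorProduct.mk_apply] at h
  have := congrArg (TensorProduct.rid k R) h
  simp only [map_sum, TensorProduct.rid_tmul, one_smul] at this
  exact this

theorem coact_proj (z : Λ) (f : R) :
    HopfRep.Comod.coact (k := k) (A := AddMonoidAlgebra k Λ) (proj (k := k) z f) = proj (k := k) z f ⊗ₜ[k] (AddMonoidAlgebra.single z (1 : k)) := by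
  classical
  obtain ⟨s, hs0, hs, -⟩ := exists_coact_eq (k := k) (Λ := Λ) f
  have h := LinearMap.congr_fun (HopfRep.Comod.coassoc (k := k) (A := AddMonoidAlgebra k Λ) (V := R)) f
  rw [LinearMap.comp_apply, LinearMap.comp_apply, LinearMap.comp_apply, hs] at h
  simp only [map_sum, LinearMap.rTensor_tmul, LinearMap.lTensor_tmul, LinearEquiv.coe_coe,
    AddMonoidAlgebra.comul_single, CommSemiring.comul_apply, TensorProduct.map_tmul, AddMonoidAlgebra.lsingle_apply] at h
  have h2 := congrArg (fun x => TensorProduct.rid k _ ((coef z).lTensor _ ((TensorProduct.assoc k R _ _).symm x))) h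
  simp only [map_sum, LinearEquiv.symm_apply_apply, TensorProduct.assoc_symm_tmul, LinearMap.lTensor_tmul,
    TensorProduct.rid_tmul, coef_apply, AddMonoidAlgebra.coeff_single, Finsupp.single_apply, ite_smul, one_smul,
    zero_smul, Finset.sum_ite_eq'] at h2
  by_cases hz : z ∈ s
  · simpa [hz] using h2
  · rw [hs0 z hz, map_zero, TensorProduct.zero_tmul]

theorem proj_mem_eigenspace (z : Λ) (f : R) :
    proj (k := k) z f ∈ HopfRep.eigenspace k (AddMonoidAlgebra k Λ) R (AddMonoidAlgebra.single z 1) := coact_proj z f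

theorem proj_of_coact [DecidableEq Λ] {g : R} {w : Λ}
    (hg : HopfRep.Comod.coact (k := k) (A := AddMonoidAlgebra k Λ) g = g ⊗ₜ[k] AddMonoidAlgebra.single w (1 : k)) (z : Λ) :
    proj (k := k) z g = if w = z then g else 0 := by
  rw [proj, LinearMap.comp_apply, hg, ext'_tmul, AddMonoidAlgebra.coeff_single, Finsupp.single_apply, ite_smul,
    one_smul, zero_smul]

variable [GLin.IsCoactAlg k (AddMonoidAlgebra k Λ) R]

theorem proj_mul {g : R} {w : Λ}
    (hg : HopfRep.Comod.coact (k := k) (A := AddMonoidAlgebra k Λ) g = g ⊗ₜ[k] AddMonoidAlgebra.single w (1 : k))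
    (c : R) (z : Λ) : proj (k := k) z (g * c) = g * proj (k := k) (z - w) c := by
  rw [proj, LinearMap.comp_apply, GLin.IsCoactAlg.coact_mul, hg]
  show _ = g * ext' (z - w) (HopfRep.Comod.coact c)
  generalize HopfRep.Comod.coact (k := k) (A := AddMonoidAlgebra k Λ) c = x
  induction x using TensorProduct.induction_on with
  | zero => simp
  | tmul r a =>
    rw [Algebra.TensorProduct.tmul_mul_tmul, ext'_tmul, ext'_tmul, mul_smul_comm]
    congr 1
    have h : (AddMonoidAlgebra.single w (1 : k) * a).coeff z = 1 * a.coeff (-w + z) := by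
      apply AddMonoidAlgebra.coeff_single_mul_apply
    rw [h, one_mul, neg_add_eq_sub]
  | add x y hx hy => rw [mul_add, map_add, map_add, hx, hy, mul_add]

variable (k Λ R) in
/-- The ideal of the nonzero weights. -/
def posIdeal : Ideal R :=
  Ideal.span {f : R | ∃ w : Λ, w ≠ 0 ∧ f ∈ HopfRep.eigenspace k (AddMonoidAlgebra k Λ) R (AddMonoidAlgebra.single w 1)}

theorem sub_proj_zero_mem (f : R) : f - proj (k := k) (0 : Λ) f ∈ posIdeal k Λ R := by
  classical
  obtain ⟨s, hs0, -, hs⟩ := exists_coact_eq (k := k) (Λ := Λ) f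
  have h : f - proj (k := k) (0 : Λ) f = ∑ z ∈ s.erase 0, proj (k := k) z f := by
    by_cases h0 : (0 : Λ) ∈ s
    · nth_rewrite 1 [← hs]; rw [← Finset.sum_erase_add _ _ h0, add_sub_cancel_right]
    · rw [hs0 0 h0, sub_zero, Finset.erase_eq_of_notMem h0, hs]
  rw [h]
  exact Submodule.sum_mem _ fun z hz => Ideal.subset_span ⟨z, Finset.ne_of_mem_erase hz, proj_mem_eigenspace z f⟩

theorem proj_zero_eq_zero_of_mem
    (hpos : ∀ w : Λ, HopfRep.eigenspace k (AddMonoidAlgebra k Λ) R (AddMonoidAlgebra.single w 1) ≠ ⊥ →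
      HopfRep.eigenspace k (AddMonoidAlgebra k Λ) R (AddMonoidAlgebra.single (-w) 1) ≠ ⊥ → w = 0)
    {f : R} (hf : f ∈ posIdeal k Λ R) : proj (k := k) (0 : Λ) f = 0 := by
  classical
  induction hf using Submodule.span_induction with
  | mem x hx =>
    obtain ⟨w, hw, hxw⟩ := hx
    rw [proj_of_coact hxw, if_neg hw]
  | zero => exact map_zero _
  | add x y _ _ hx hy => rw [map_add, hx, hy, add_zero]
  | smul c x hx ih =>
    clear ih
    induction hx using Submodule.span_induction generalizing c with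
    | mem x hx =>
      obtain ⟨w, hw, hxw⟩ := hx
      rw [smul_eq_mul, mul_comm, proj_mul hxw, zero_sub]
      by_contra h
      refine hw (hpos w (fun hb => h ?_) (fun hb => h ?_))
      · rw [(Submodule.eq_bot_iff _).1 hb x hxw, zero_mul]
      · rw [(Submodule.eq_bot_iff _).1 hb _ (proj_mem_eigenspace (-w) c), mul_zero]
    | zero => simp
    | add x y _ _ hx hy => rw [smul_add, map_add, hx, hy, add_zero]
    | smul d x _ hx => rw [smul_smul]; exact hx _

theorem proj_zero_one : proj (k := k) (0 : Λ) (1 : R) = (1 : R) := by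
  classical
  have h : HopfRep.Comod.coact (k := k) (A := AddMonoidAlgebra k Λ) (1 : R) = (1 : R) ⊗ₜ[k] AddMonoidAlgebra.single (0 : Λ) (1 : k) := by
    rw [GLin.IsCoactAlg.coact_one, Algebra.TensorProduct.one_def]; rfl
  rw [proj_of_coact h, if_pos rfl]

end Groth.Agent.TorusW
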